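import Groth.Agent.Sga4h.X144Alg

/-!
# Double duality for finite abelian groups killed by `n`
-/

set_option autoImplicit false

universe t t'

namespace K806.DDual

/-- The evaluation map `A → Hom(Hom(A, ℤ/n), ℤ/n)`. -/
def ev (n : ℕ) (A : Type t) [AddCommGroup A] : A →+ ((A →+ ZMod n) →+ ZMod n) :=
  AddMonoidHom.mk' (fun m => AddMonoidHom.mk' (fun f => f m) (fun _ _ => rfl))
    (fun a b => by ext f; exact map_add f a b)

theorem ev_bijective (n : ℕ) (hn : n ≠ 0) (A : Type t) [AddCommGroup A] [Finite A]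
    (hA : ∀ x : A, n • x = 0) : Function.Bijective (ev n A) := by
  have : NeZero n := ⟨hn⟩
  have hA' : ∀ x : A →+ ZMod n, n • x = 0 := by
    intro x
    ext m
    change n • x m = 0
    rw [← map_nsmul, hA, map_zero]
  have hinj1 : Finite (A →+ ZMod n) := Finite.of_injective (fun f : A →+ ZMod n => (f : A → ZMod n))
    DFunLike.coe_injective
  have hinj2 : Finite ((A →+ ZMod n) →+ ZMod n) :=
    Finite.of_injective (fun f : (A →+ ZMod n) →+ ZMod n => (f : (A →+ ZMod n) → ZMod n))
      DFunLike.coe_injective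
  have hev : Function.Injective (ev n A) := by
    rw [injective_iff_map_eq_zero]
    intro m hm
    by_contra hne
    obtain ⟨f, hf⟩ := Groth.Agent.Sga4h.X144Alg.exists_hom_ne_zero n hA hne
    exact hf (DFunLike.congr_fun hm f)
  have hcard : Nat.card A = Nat.card ((A →+ ZMod n) →+ ZMod n) := by
    rw [Groth.Agent.Sga4h.X144Alg.card_hom n hA', Groth.Agent.Sga4h.X144Alg.card_hom n hA]
  have : Fintype A := Fintype.ofFinite A
  have : Fintype ((A →+ ZMod n) →+ ZMod n) := Fintype.ofFinite _
  rw [Fintype.bijective_iff_injective_and_card]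
  exact ⟨hev, by rw [← Nat.card_eq_fintype_card, ← Nat.card_eq_fintype_card, hcard]⟩

/-- If `φ : B ≃+ (A →+ ℤ/n)`, `A` finite killed by `n`, then `a ↦ (b ↦ φ b a)` is bijective. -/
theorem bijective_of_perfect (n : ℕ) (hn : n ≠ 0) {A : Type t} [AddCommGroup A] [Finite A]
    (hA : ∀ x : A, n • x = 0) {B : Type t'} [AddCommGroup B] (φ : B ≃+ (A →+ ZMod n))
    (ψ : A →+ (B →+ ZMod n)) (h : ∀ a b, ψ a b = φ b a) : Function.Bijective ψ := by
  obtain ⟨h1, h2⟩ := ev_bijective n hn A hA
  constructor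
  · rw [injective_iff_map_eq_zero]
    intro a ha
    apply h1
    ext f
    rw [map_zero]
    change f a = 0
    obtain ⟨b, rfl⟩ := φ.surjective f
    rw [← h, ha]
    rfl
  · intro g
    obtain ⟨a, ha⟩ := h2 (g.comp φ.symm.toAddMonoidHom)
    refine ⟨a, ?_⟩
    ext b
    rw [h]
    have h3 := DFunLike.congr_fun ha (φ b)
    refine h3.trans ?_
    change g (φ.symm (φ b)) = g b
    rw [φ.symm_apply_apply]

end K806.DDual
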