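import Groth.Agent.Etcore.HQ
import Groth.Agent.Sga4B.JFComp
import Groth.Agent.Sga4B.ModExtU
import Groth.Agent.Sga4B.HTools

/-!
# `Ext^m(ℤ[W], F) = H^m(W, F|_W)`, compatibly with pullback

For `q : Z ⟶ X` and `r : Z ⟶ W` over `X` (`W` étale over `X`):
* `rcm q r F m : Ext^m(ℤ[W], F) →+ H^m(Z, q⁻¹ F)`, bijective if `q` is étale and `r` is an isomorphism
  (`rcm_bijective`);
* `rcm_toTop`: precomposition with `ℤ[W] ⟶ ℤ[X]` corresponds to the pullback map `H^m(X, F) → H^m(Z, q⁻¹ F)`;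
* `rcm_comp_mk₀`: naturality in `F`.
-/

set_option autoImplicit false
universe u

open CategoryTheory CategoryTheory.Limits AlgebraicGeometry Opposite Abelian
open scoped Groth.Agent.Etcore.EtInst
open Groth.Agent.Etcore.EtInst
open Groth.Agent.EtpbcA Groth.Agent.Sga4B Groth.Agent.Sga4B.DualShape Groth.Agent.Sga4B.ModExtU

namespace K806.ExtU

open Groth.Agent.Etcore Groth.Agent.Etcore.HpullCalc Groth.Agent.Etcore.PullCoh Groth.Agent.Etcore.HQ

attribute [local instance] pfl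

variable {X : Scheme.{u}}

/-- `Ext^m(ℤ[X], F) ≃ H^m(X, F)`. -/
noncomputable def toH (F : EtCoh.Ab X) (m : ℕ) :
    Ext.{u + 1} (ZS (EtCoh.top X)) F m ≃+ HH X F m :=
  HTools.extPrecomp (JFComp.topIso ℤ X).symm F m

theorem toH_apply (F : EtCoh.Ab X) (m : ℕ) (x : Ext.{u + 1} (ZS (EtCoh.top X)) F m) :
    toH F m x = (Ext.mk₀ (JFComp.topIso ℤ X).inv).comp x (zero_add m) := rfl

theorem H0_topIso_inv : H0 X (ZS (EtCoh.top X)) (Ext.mk₀ (JFComp.topIso ℤ X).inv) =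
    Jshriek.univ (EtCoh.top X) ℤ 1 := by
  rw [H0_mk₀]
  have h := ((EtCore.constAdj X).homEquiv _ _).apply_symm_apply
    (AddCommGrpCat.ofHom ((Jshriek.univ (EtCoh.top X) ℤ).comp
      (AddEquiv.ulift.{0, u + 1}.toAddMonoidHom)))
  exact congrArg (fun t => t.hom (ULift.up (1 : ℤ))) h

variable {Z : Scheme.{u}} (q : Z ⟶ X) {W : X.Etale} (r : Z ⟶ W.left) (hr : r ≫ W.hom = q)

/-- The morphism `ℤ_Z ⟶ q⁻¹ ℤ[W]` attached to the universal section. -/
noncomputable def bsec : EtCoh.const Z ℤ ⟶ (EtCoh.pull q).obj (ZS W) :=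
  ((Ext.mk₀_bijective _ _).2 (HQ.sec (ZS W) q r hr (Jshriek.univ W ℤ 1))).choose

theorem mk₀_bsec : Ext.mk₀ (bsec q r hr) = HQ.sec (ZS W) q r hr (Jshriek.univ W ℤ 1) :=
  ((Ext.mk₀_bijective _ _).2 (HQ.sec (ZS W) q r hr (Jshriek.univ W ℤ 1))).choose_spec

/-- `Ext^m(ℤ[W], F) → H^m(Z, q⁻¹ F)`. -/
noncomputable def rcm (F : EtCoh.Ab X) (m : ℕ) :
    Ext.{u + 1} (ZS W) F m →+ HH Z ((EtCoh.pull q).obj F) m :=
  ExtMap.extMap (EtCoh.pull q) (bsec q r hr) F m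

theorem rcm_zero_mk₀ (F : EtCoh.Ab X) (f : ZS W ⟶ F) :
    rcm q r hr F 0 (Ext.mk₀ f) = HQ.sec F q r hr (f.hom.app (op W) (Jshriek.univ W ℤ 1)) := by
  refine Eq.trans ?_ (HQ.map_sec f q r hr (Jshriek.univ W ℤ 1))
  rw [rcm, ExtMap.extMap_mk₀, ← mk₀_bsec, HQ.map_apply, HHmap_apply, Ext.mk₀_comp_mk₀]

theorem sec_bijective [Etale q] [IsIso r] (F : EtCoh.Ab X) :
    Function.Bijective (HQ.sec F q r hr) := by
  refine (H0 _ _).symm.bijective.comp ?_
  have h := SecPull.sq_isIso_of_etale q F (V := W) (W := EtCoh.top Z) r (sq_cond q r hr) ‹_›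
  exact (ConcreteCategory.isIso_iff_bijective _).1 h

theorem rcm_bijective [Etale q] [IsIso r] (F : EtCoh.Ab X) (m : ℕ) :
    Function.Bijective (rcm q r hr F m) := by
  refine ExtMap.bijective_of_effaceable (EtCoh.pull q) (bsec q r hr) (fun _ => True) ?_ ?_ m F trivial
  · intro B _
    constructor
    · intro x y hxy
      obtain ⟨b, rfl⟩ := (Ext.mk₀_bijective (ZS W) B).2 x
      obtain ⟨c, rfl⟩ := (Ext.mk₀_bijective (ZS W) B).2 y
      have h1 : rcm q r hr B 0 (Ext.mk₀ b) = rcm q r hr B 0 (Ext.mk₀ c) := hxy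
      rw [rcm_zero_mk₀, rcm_zero_mk₀] at h1
      exact congrArg _ (hom_ext_int W ((sec_bijective q r hr B).1 h1))
    · intro y
      obtain ⟨s, rfl⟩ := (sec_bijective q r hr B).2 y
      refine ⟨Ext.mk₀ (secMap W s), (rcm_zero_mk₀ q r hr B (secMap W s)).trans ?_⟩
      rw [secMap_univ]
  · intro B _
    refine ⟨Injective.under B, cokernel (Injective.ι B), Injective.ι B, cokernel.π _,
      cokernel.condition _, { exact := ShortComplex.exact_cokernel _ }, trivial, trivial,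
      fun n => ⟨?_, ?_⟩⟩
    · exact subsingleton_of_forall_eq 0 fun e => Ext.eq_zero_of_injective e
    · exact subsingleton_of_forall_eq 0 fun e => HQ.eq_zero_of_injective (Injective.under B) q n e

theorem rcm_comp_mk₀ {F G : EtCoh.Ab X} (φ : F ⟶ G) (m : ℕ) (x : Ext.{u + 1} (ZS W) F m) :
    rcm q r hr G m (x.comp (Ext.mk₀ φ) (add_zero m)) =
      HHmap ((EtCoh.pull q).map φ) m (rcm q r hr F m x) :=
  ExtMap.extMap_comp_mk₀ (EtCoh.pull q) (bsec q r hr) φ m x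

theorem bsec_toTop : bsec q r hr ≫ (EtCoh.pull q).map (ZSmap (DualShape.toTop W)) =
      (EtCore.pullConst q ℤ).inv ≫ (EtCoh.pull q).map (JFComp.topIso ℤ X).inv := by
  apply (Ext.mk₀_bijective _ _).1
  have h1 : Ext.mk₀ (bsec q r hr ≫ (EtCoh.pull q).map (ZSmap (DualShape.toTop W))) =
      HQ.sec (ZS (EtCoh.top X)) q r hr
        ((ZSmap (DualShape.toTop W)).hom.app (op W) (Jshriek.univ W ℤ 1)) := by
    refine Eq.trans ?_ (rcm_zero_mk₀ q r hr _ (ZSmap (DualShape.toTop W)))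
    exact (ExtMap.extMap_mk₀ (EtCoh.pull q) (bsec q r hr) (ZSmap (DualShape.toTop W))).symm
  have h2 : (ZSmap (DualShape.toTop W)).hom.app (op W) (Jshriek.univ W ℤ 1) =
      (ZS (EtCoh.top X)).obj.map (DualShape.toTop W).op (Jshriek.univ (EtCoh.top X) ℤ 1) :=
    jMap_univ ℤ (DualShape.toTop W) 1
  have hw : (DualShape.toTop W).left = W.hom :=
    (Category.comp_id _).symm.trans (MorphismProperty.Over.w (DualShape.toTop W))
  have h3 := HQ.sec_res (ZS (EtCoh.top X)) q r hr (DualShape.toTop W)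
    q (Category.comp_id _) ((congrArg (r ≫ ·) hw).trans hr) (Jshriek.univ (EtCoh.top X) ℤ 1)
  refine h1.trans ((congrArg _ h2).trans (h3.trans ?_))
  apply (H0 Z ((EtCoh.pull q).obj (ZS (EtCoh.top X)))).injective
  have h4 : Ext.mk₀ ((EtCore.pullConst q ℤ).inv ≫
      (EtCoh.pull q).map (JFComp.topIso ℤ X).inv) =
      hp q (ZS (EtCoh.top X)) 0 (Ext.mk₀ (JFComp.topIso ℤ X).inv) := by
    rw [hp_apply, Ext.mapExactFunctor_mk₀, Ext.mk₀_comp_mk₀]
  rw [h4, hp_zero, H0_topIso_inv]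
  exact (HQ.H0_sec (ZS (EtCoh.top X)) q (W := EtCoh.top X) q (Category.comp_id _)
    (Jshriek.univ (EtCoh.top X) ℤ 1)).trans (HQ.unitSec_apply q _ _).symm

/-- Precomposition with `ℤ[W] ⟶ ℤ[X]` is the pullback map. -/
theorem rcm_toTop (F : EtCoh.Ab X) (m : ℕ) (x : Ext.{u + 1} (ZS (EtCoh.top X)) F m) :
    rcm q r hr F m ((Ext.mk₀ (ZSmap (DualShape.toTop W))).comp x (zero_add m)) =
      hp q F m (toH F m x) := by
  have h1 := ExtMap.extMap_mk₀_comp (EtCoh.pull q)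
    (bsec q r hr ≫ (EtCoh.pull q).map (ZSmap (DualShape.toTop W))) (bsec q r hr)
    (ZSmap (DualShape.toTop W)) (𝟙 _) (Category.id_comp _) F m x
  have h2 := ExtMap.extMap_mk₀_comp (EtCoh.pull q)
    ((EtCore.pullConst q ℤ).inv ≫ (EtCoh.pull q).map (JFComp.topIso ℤ X).inv)
    (EtCore.pullConst q ℤ).inv (JFComp.topIso ℤ X).inv (𝟙 _) (Category.id_comp _) F m x
  rw [Ext.mk₀_id_comp] at h1 h2
  rw [toH_apply, hp, rcm, h1, h2, bsec_toTop]

end K806.ExtU
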