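import Groth.Agent.Sga5.FlcClopen
import Groth.Agent.Etrest.ConstBasic
import Groth.Agent.EtpbcA.ConsFLC
import Groth.Prelude.Def_EtCore

/-!
# Sections of finite locally constant sheaves over connected étale schemes
-/

set_option autoImplicit false
universe u

open CategoryTheory CategoryTheory.Limits AlgebraicGeometry Opposite

namespace K806.FlcConn

open Groth.Agent.Etbase Groth.Agent.Etcore Groth.Agent.EtpbcA Groth.Agent.EtpbcA.ConsVan
  Groth.Agent.Sga5.FlcClopen

variable {X : Scheme.{u}} {F : EtCoh.Ab X}

/-- A section of a finite locally constant sheaf over a connected scheme which vanishes at a point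
vanishes. -/
theorem eq_zero_of_van_pt (hF : EtCoh.IsFiniteLocallyConstant F) {T : X.Etale}
    [ConnectedSpace T.left] (s : EtCoh.sect F T) (v : T.left) (h : Van F s v) : s = 0 := by
  have h1 : {v | Van F s v} = Set.univ := (isClopen_van hF s).eq_univ ⟨v, h⟩
  apply eq_zero_of_van
  intro x
  have h2 : x ∈ {v | Van F s v} := by rw [h1]; exact Set.mem_univ x
  exact h2

/-- The map from a group to the global sections of the constant sheaf. -/
theorem exists_cst (X : Scheme.{u}) (M : Type) [AddCommGroup M] :
    ∃ φ : M →+ EtCoh.sect (EtCoh.const X M) (EtCoh.top X), ∀ y, BijAt (EtCoh.const X M) φ y :=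
  ConsFLC.exists_of_iso_const ((Groth.Agent.Etrest.ConstBasic.constOver (EtCoh.top X)).app _)

/-- Sections of a constant sheaf over a connected scheme are constant. -/
theorem exists_const {M : Type} [AddCommGroup M] [Finite M] {T : X.Etale} [ConnectedSpace T.left]
    (t : EtCoh.sect (EtCoh.const X M) T) : ∃ t₀ : EtCoh.sect (EtCoh.const X M) (EtCoh.top X),
      t = res (EtCoh.const X M) ((EtCore.topIsTerminal X).from T) t₀ := by
  obtain ⟨φ, hφ⟩ := exists_cst X M
  obtain ⟨v⟩ := (inferInstance : Nonempty T.left)
  obtain ⟨m, hm⟩ := (hφ (((EtCore.topIsTerminal X).from T).left v)).2 T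
    ((EtCore.topIsTerminal X).from T) v rfl t
  refine ⟨φ m, sub_eq_zero.1 (eq_zero_of_van_pt
    (Groth.Agent.Etrest.ConstBasic.isFiniteLocallyConstant_const X M) _ v hm)⟩

/-- Sections of a constant sheaf over a connected scheme are invariant. -/
theorem res_endo {M : Type} [AddCommGroup M] [Finite M] {T : X.Etale} [ConnectedSpace T.left]
    (g : T ⟶ T) (t : EtCoh.sect (EtCoh.const X M) T) : res (EtCoh.const X M) g t = t := by
  obtain ⟨t₀, rfl⟩ := exists_const t
  rw [← res_comp, (EtCore.topIsTerminal X).hom_ext (g ≫ (EtCore.topIsTerminal X).from T)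
    ((EtCore.topIsTerminal X).from T)]

end K806.FlcConn
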