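import Groth.Agent.EtTr.K806.GalExp
import Groth.Agent.Sga4h.EtTrace764
import Groth.Agent.EtpbcA.KilledBy

/-!
# The degree of the Galois covering trivialising a finite locally constant sheaf
-/

set_option autoImplicit false
universe u

open CategoryTheory CategoryTheory.Limits AlgebraicGeometry Opposite

namespace K806.GalDeg

open Groth.Agent.EtpbcA Groth.Agent.EtpbcA.Germ Groth.Agent.Lefpen.H534.IsoTorsor

variable {X : Scheme.{u}} {F : EtCoh.Ab X}

theorem surjective_hom [ConnectedSpace X] (D : Gal F) : Function.Surjective D.A.hom := by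
  have h1 : IsClopen (X := X) (Set.range D.A.hom) :=
    ⟨(Scheme.Hom.isClosedMap D.A.hom).isClosed_range, (Scheme.Hom.isOpenMap D.A.hom).isOpen_range⟩
  obtain ⟨y⟩ := (inferInstance : Nonempty D.A.left)
  have h2 := IsClopen.eq_univ (α := X) h1 ⟨D.A.hom y, ⟨y, rfl⟩⟩
  exact Set.range_eq_univ.1 h2

theorem card_fib (D : Gal F) {Ω : Type u} [Field Ω] [IsSepClosed Ω]
    (ξ : Spec (CommRingCat.of Ω) ⟶ X) (a : Fib ξ D.A) : Nat.card (Fib ξ D.A) = Nat.card D.G := by
  refine (Nat.card_congr (Equiv.ofBijective (fun g : D.G => fmap ξ (D.f g) a) ⟨?_, ?_⟩)).symm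
  · intro g h hgh
    have h1 : fmap ξ (D.f g) a = fmap ξ (D.f h) a := hgh
    have h2 : fmap ξ (D.f (g * h⁻¹)) a = a := by
      rw [D.f_mul, fmap_comp, h1, ← fmap_comp, D.f_comp_inv]
      exact ConcreteCategory.congr_hom ((Scheme.pointSmallEtale ξ).fiber.map_id D.A) a
    have h3 := D.eq_one_of_fmap ξ _ a h2
    exact mul_inv_eq_one.1 h3
  · intro b
    exact D.exists_fmap_eq ξ a b

theorem card_lifts [ConnectedSpace X] (D : Gal F) (Ω : Type u) [Field Ω] [IsAlgClosed Ω]
    (η : Spec (CommRingCat.of Ω) ⟶ X) :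
    Nat.card {t : Spec (CommRingCat.of Ω) ⟶ D.A.left // t ≫ D.A.hom = η} = Nat.card D.G := by
  obtain ⟨y, hy⟩ := surjective_hom D (η default)
  obtain ⟨a, -⟩ := KilledBy.exists_fib η y hy
  rw [← card_fib D η a]
  exact Nat.card_congr
    { toFun := fun t => Over.homMk t.1 t.2
      invFun := fun t => ⟨t.left, Over.w t⟩
      left_inv := fun _ => rfl
      right_inv := fun _ => rfl }

theorem finrank_eq [ConnectedSpace X] (D : Gal F) (x : X) : D.A.hom.finrank x = Nat.card D.G := by
  have : Etale D.A.hom := D.A.prop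
  exact Groth.Agent.Sga4h.EtTrace764.finrank_eq D.A.hom _
    (fun Ω _ _ η => card_lifts D Ω η) x

end K806.GalDeg
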