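import Groth.Agent.EtTr.K806.FlcConn
import Groth.Agent.Lefpen.H534.IsoTorsor
import Groth.Agent.Fga.Torsor
import Mathlib.GroupTheory.Perm.Cycle.Type

/-!
# The Galois group trivialising an extension of a constant sheaf by a constant sheaf killed by `n`

Its exponent divides `n`, hence its order divides a power of `n`.
-/

set_option autoImplicit false
universe u

open CategoryTheory CategoryTheory.Limits AlgebraicGeometry Opposite

namespace K806.GalExp

open Groth.Agent.Etbase Groth.Agent.Etcore Groth.Agent.EtpbcA Groth.Agent.EtpbcA.ConsVan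
  Groth.Agent.Sga5.FlcClopen Groth.Agent.Lefpen.H534.IsoTorsor K806.FlcConn

variable {X : Scheme.{u}} {S : ShortComplex (EtCoh.Ab X)}

theorem eq_of_res_eq {F : EtCoh.Ab X} (D : Gal F) {m m' : D.M} (h : D.φ m = D.φ m') : m = m' := by
  obtain ⟨y⟩ := (inferInstance : Nonempty D.A.left)
  have h1 := (D.bij y).1 (m - m') (van_zero_of_eq (by rw [map_sub, h, sub_self]) y)
  exact sub_eq_zero.1 h1

/-- `g m = m + d` with `n d = 0` and `g d = d`. -/
theorem exists_d (hS : S.ShortExact) {n : ℕ} (D : Gal S.X₂)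
    (h1 : ∀ (g : D.A ⟶ D.A) (c : EtCoh.sect S.X₁ D.A), res S.X₁ g c = c)
    (h3 : ∀ (g : D.A ⟶ D.A) (c : EtCoh.sect S.X₃ D.A), res S.X₃ g c = c)
    (hk : EtCoh.KilledBy n S.X₁) (g : D.G) (m : D.M) :
    n • (g.1 m - m) = 0 ∧ g.1 (g.1 m - m) = g.1 m - m := by
  have e1 : S.g.hom.app (op D.A) (D.φ (g.1 m - m)) = 0 := by
    rw [map_sub, ← D.res_f, map_sub, ← res_naturality, h3, sub_self]
  obtain ⟨c, hc⟩ := Groth.Agent.Fga.Torsor.exists_of_map_eq_zero hS (D.φ (g.1 m - m)) e1
  constructor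
  · apply eq_of_res_eq D
    rw [map_nsmul, map_zero, ← hc, ← map_nsmul]
    have h2 : n • c = 0 := hk D.A c
    rw [h2, map_zero]
  · apply eq_of_res_eq D
    rw [← D.res_f, ← hc]
    exact (res_naturality S.f (D.f g) c).trans (congrArg _ (h1 (D.f g) c))

theorem pow_eq_one (hS : S.ShortExact) {n : ℕ} (D : Gal S.X₂)
    (h1 : ∀ (g : D.A ⟶ D.A) (c : EtCoh.sect S.X₁ D.A), res S.X₁ g c = c)
    (h3 : ∀ (g : D.A ⟶ D.A) (c : EtCoh.sect S.X₃ D.A), res S.X₃ g c = c)
    (hk : EtCoh.KilledBy n S.X₁) (g : D.G) : g ^ n = 1 := by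
  apply Subtype.ext
  apply LinearEquiv.ext
  intro m
  obtain ⟨a, b⟩ := exists_d hS D h1 h3 hk g m
  have key : ∀ k : ℕ, (g.1 ^ k) m = m + k • (g.1 m - m) := by
    intro k
    induction k with
    | zero => rw [pow_zero, zero_smul, add_zero]; rfl
    | succ k ih =>
      rw [pow_succ']
      change g.1 ((g.1 ^ k) m) = _
      rw [ih, map_add, map_nsmul, b, succ_nsmul]
      abel
  change (g.1 ^ n) m = m
  rw [key, a, add_zero]

/-- The order of a finite group of exponent dividing `n` divides a power of `n`. -/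
theorem card_dvd_pow {G : Type*} [Group G] [Finite G] {n : ℕ} (hn : n ≠ 0)
    (h : ∀ g : G, g ^ n = 1) : ∃ m : ℕ, Nat.card G ∣ n ^ m := by
  have hG : Nat.card G ≠ 0 := Nat.card_pos.ne'
  refine ⟨Nat.card G, ?_⟩
  rw [← Nat.factorization_le_iff_dvd hG (pow_ne_zero _ hn)]
  intro p
  by_cases hp : p.Prime
  · by_cases hpG : p ∣ Nat.card G
    · have : Fact p.Prime := ⟨hp⟩
      obtain ⟨g, hg⟩ := exists_prime_orderOf_dvd_card' p hpG
      have h2 : p ∣ n := by rw [← hg]; exact orderOf_dvd_of_pow_eq_one (h g)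
      rw [Nat.factorization_pow]
      have h3 : 1 ≤ n.factorization p := (hp.dvd_iff_one_le_factorization hn).1 h2
      calc (Nat.card G).factorization p ≤ Nat.card G := (Nat.factorization_lt p hG).le
        _ = Nat.card G * 1 := (mul_one _).symm
        _ ≤ Nat.card G * n.factorization p := Nat.mul_le_mul_left _ h3
        _ = (Nat.card G • n.factorization) p := rfl
    · rw [Nat.factorization_eq_zero_of_not_dvd hpG]
      exact Nat.zero_le _
  · rw [Nat.factorization_eq_zero_of_not_prime _ hp]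
    exact Nat.zero_le _

end K806.GalExp
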