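import Groth.Agent.EtTr.K806.GalExp
import Groth.Agent.Etcore.HQ
import Groth.Agent.Sga4B.DualShape

/-!
# A connecting class dies where the section lifts
-/

set_option autoImplicit false
universe u

open CategoryTheory CategoryTheory.Limits AlgebraicGeometry Opposite Abelian
open scoped Groth.Agent.Etcore.EtInst
open Groth.Agent.Etcore.EtInst

namespace K806.GalKill

open Groth.Agent.Etcore Groth.Agent.Etcore.HpullCalc Groth.Agent.Etcore.PullCoh Groth.Agent.Etcore.HQ

attribute [local instance] pfl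

section Kill

variable {X : Scheme.{u}}

theorem hp_zero_eq_sec (F : EtCoh.Ab X) {Z : Scheme.{u}} (q : Z ⟶ X) (x : HH X F 0) :
    hp q F 0 x = HQ.sec F q (W := EtCoh.top X) q (Category.comp_id _) (H0 X F x) := by
  apply (H0 Z ((EtCoh.pull q).obj F)).injective
  refine (hp_zero q F x).trans ((HQ.unitSec_apply q F (H0 X F x)).trans ?_)
  exact (HQ.H0_sec F q (W := EtCoh.top X) q (Category.comp_id _) (H0 X F x)).symm

theorem hp_comp_extClass_eq_zero {S : ShortComplex (EtCoh.Ab X)} (hS : S.ShortExact)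
    {Z : Scheme.{u}} (q : Z ⟶ X) {W : X.Etale} (r : Z ⟶ W.left) (hr : r ≫ W.hom = q)
    (x : HH X S.X₃ 0) (e : EtCoh.sect S.X₂ W)
    (he : S.g.hom.app (op W) e =
      S.X₃.obj.map ((EtCore.topIsTerminal X).from W).op (H0 X S.X₃ x)) :
    hp q S.X₁ 1 (Ext.comp x hS.extClass (zero_add 1)) = 0 := by
  have hw : ((EtCore.topIsTerminal X).from W).left = W.hom :=
    (Category.comp_id _).symm.trans (MorphismProperty.Over.w ((EtCore.topIsTerminal X).from W))
  have h1 : hp q S.X₃ 0 x = HQ.map S.g q 0 (HQ.sec S.X₂ q r hr e) := by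
    rw [HQ.map_sec, he, hp_zero_eq_sec]
    exact (HQ.sec_res S.X₃ q r hr ((EtCore.topIsTerminal X).from W) q (Category.comp_id _)
      ((congrArg (r ≫ ·) hw).trans hr) (H0 X S.X₃ x)).symm
  have h2 := hp_extClass q hS (zero_add 1) x
  rw [h1] at h2
  exact h2.trans (HQ.δ_map hS q 0 (HQ.sec S.X₂ q r hr e))

end Kill

end K806.GalKill

namespace K806.GalKill

open Groth.Agent.Etbase Groth.Agent.Etcore Groth.Agent.EtpbcA Groth.Agent.EtpbcA.ConsVan
  Groth.Agent.Sga5.FlcClopen Groth.Agent.Lefpen.H534.IsoTorsor K806.FlcConn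

variable {X : Scheme.{u}} {S : ShortComplex (EtCoh.Ab X)}

/-- Sections of the quotient lift to the Galois covering. -/
theorem exists_lift (hS : S.ShortExact) (h3 : EtCoh.IsFiniteLocallyConstant S.X₃) (D : Gal S.X₂)
    (t : EtCoh.sect S.X₃ D.A) : ∃ m, S.g.hom.app (op D.A) (D.φ m) = t := by
  have : Epi S.g := hS.epi_g
  obtain ⟨y⟩ := (inferInstance : Nonempty D.A.left)
  obtain ⟨R, hR, hl⟩ := Groth.Agent.Fga.Torsor.locallySurjective_of_epi S.g t
  rw [EtSite.mem_iff] at hR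
  obtain ⟨W, k, w, hk, hw⟩ := hR y
  obtain ⟨e, he⟩ := hl W k hk
  obtain ⟨m, hm⟩ := (D.bij y).2 W k w hw e
  refine ⟨m, (sub_eq_zero.1 (eq_zero_of_van_pt h3 _ y ?_)).symm⟩
  have h2 := Van.map S.g hm
  rw [map_sub, he, ← res_naturality] at h2
  rw [← hw]
  apply Van.of_res
  rw [map_sub]
  exact h2

/-- The connecting classes die on the Galois covering. -/
theorem hp_gal_eq_zero (hS : S.ShortExact) (h3 : EtCoh.IsFiniteLocallyConstant S.X₃) (D : Gal S.X₂)
    (x : HH X S.X₃ 0) :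
    haveI := HQ.pfl D.A.hom
    HpullCalc.hp D.A.hom S.X₁ 1 (Ext.comp x hS.extClass (zero_add 1)) = 0 := by
  obtain ⟨m, hm⟩ := exists_lift hS h3 D
    (S.X₃.obj.map ((EtCore.topIsTerminal X).from D.A).op (HpullCalc.H0 X S.X₃ x))
  exact hp_comp_extClass_eq_zero hS D.A.hom (𝟙 _) (Category.id_comp _) x (D.φ m) hm

end K806.GalKill
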