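import Groth.Agent.Etcore.Yext
import Groth.Agent.Etcore.FEtH1
import Groth.Agent.Etcore.EtInst
import Mathlib.Algebra.BigOperators.Fin

/-!
# Finitely many classes in `H¹(X, ℤ/n)` come from one extension of a constant sheaf by `ℤ/n`
-/

set_option autoImplicit false
universe w v u

open CategoryTheory CategoryTheory.Limits CategoryTheory.Abelian AlgebraicGeometry Opposite

namespace K806.TautExt

section Abstract

variable {C : Type u} [Category.{v} C] [Abelian C] [HasExt.{w} C]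

theorem exists_lift {Z Zn G : C} (n : ℕ) (q : Z ⟶ Zn) (wq : (n • 𝟙 Z) ≫ q = 0)
    (hS : (ShortComplex.mk (n • 𝟙 Z) q wq).ShortExact) (hG : n • 𝟙 G = 0) (e : Ext.{w} Z G 1) :
    ∃ y : Ext.{w} Zn G 1, (Ext.mk₀ q).comp y (zero_add 1) = e := by
  have kill : (Ext.mk₀ (n • 𝟙 Z)).comp e (zero_add 1) = 0 := by
    have e1 : (Ext.mk₀ (n • 𝟙 Z)).comp e (zero_add 1) = e.comp (Ext.mk₀ (n • 𝟙 G)) (add_zero 1) := by
      have a1 : Ext.mk₀ (n • 𝟙 Z) = n • Ext.mk₀ (𝟙 Z) :=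
        map_nsmul (Ext.addEquiv₀ (X := Z) (Y := Z)).symm n (𝟙 Z)
      have a2 : Ext.mk₀ (n • 𝟙 G) = n • Ext.mk₀ (𝟙 G) :=
        map_nsmul (Ext.addEquiv₀ (X := G) (Y := G)).symm n (𝟙 G)
      have b1 : (n • Ext.mk₀ (𝟙 Z)).comp e (zero_add 1) = n • ((Ext.mk₀ (𝟙 Z)).comp e (zero_add 1)) :=
        map_nsmul ((Ext.bilinearComp Z Z G 0 1 1 (zero_add 1)).flip e) n (Ext.mk₀ (𝟙 Z))
      have b2 : e.comp (n • Ext.mk₀ (𝟙 G)) (add_zero 1) = n • (e.comp (Ext.mk₀ (𝟙 G)) (add_zero 1)) :=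
        map_nsmul ((Ext.bilinearComp Z G G 1 0 1 (add_zero 1)) e) n (Ext.mk₀ (𝟙 G))
      rw [a1, a2, b1, b2, Ext.mk₀_id_comp, Ext.comp_mk₀_id]
    rw [e1, hG, Ext.mk₀_zero, Ext.comp_zero]
  exact Ext.contravariant_sequence_exact₂ hS G e kill

theorem exists_ext [EnoughInjectives C] {ι : Type} [Fintype ι] [DecidableEq ι] {Z Zn G N : C}
    (n : ℕ) (q : Z ⟶ Zn) (wq : (n • 𝟙 Z) ≫ q = 0)
    (hS : (ShortComplex.mk (n • 𝟙 Z) q wq).ShortExact) (hG : n • 𝟙 G = 0)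
    (inj : ι → (Zn ⟶ N)) (pr : ι → (N ⟶ Zn))
    (h1 : ∀ i, inj i ≫ pr i = 𝟙 Zn) (h2 : ∀ i j, i ≠ j → inj i ≫ pr j = 0)
    (e : ι → Ext.{w} Z G 1) :
    ∃ (E : C) (i : G ⟶ E) (p : E ⟶ N) (w : i ≫ p = 0)
      (hS' : (ShortComplex.mk i p w).ShortExact),
      ∀ a, (Ext.mk₀ (q ≫ inj a)).comp hS'.extClass (zero_add 1) = e a := by
  choose y hy using fun a => exists_lift n q wq hS hG (e a)
  obtain ⟨E, i, p, w, hS', h'⟩ := Groth.Agent.Etcore.Yext.exists_extClass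
    (∑ a, (Ext.mk₀ (pr a)).comp (y a) (zero_add 1))
  refine ⟨E, i, p, w, hS', fun a => ?_⟩
  rw [h']
  have h3 : (Ext.mk₀ (q ≫ inj a)).comp (∑ b, (Ext.mk₀ (pr b)).comp (y b) (zero_add 1))
      (zero_add 1) = ∑ b, (Ext.mk₀ (q ≫ inj a)).comp ((Ext.mk₀ (pr b)).comp (y b) (zero_add 1))
        (zero_add 1) :=
    map_sum ((Ext.bilinearComp Z N G 0 1 1 (zero_add 1)) (Ext.mk₀ (q ≫ inj a))) _ _
  rw [h3, Finset.sum_eq_single a]
  · rw [Ext.mk₀_comp_mk₀_assoc, Category.assoc, h1, Category.comp_id, hy]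
  · intro b _ hb
    rw [Ext.mk₀_comp_mk₀_assoc, Category.assoc, h2 a b (Ne.symm hb), comp_zero, Ext.mk₀_zero,
      Ext.zero_comp]
  · intro h
    exact absurd (Finset.mem_univ a) h

end Abstract

section Sheaf

open scoped Groth.Agent.Etcore.EtInst
open Groth.Agent.Etcore.EtInst Groth.Agent.Etcore.FEtH1

/-- The map of constant sheaves. -/
noncomputable def cm (X : Scheme.{u}) {M M' : Type} [AddCommGroup M] [AddCommGroup M']
    (φ : M →+ M') : EtCoh.const X M ⟶ EtCoh.const X M' :=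
  (constantSheaf X.smallEtaleTopology AddCommGrpCat.{u + 1}).map (AddCommGrpCat.ofHom
    ((AddEquiv.ulift.symm : M' ≃+ ULift.{u + 1} M').toAddMonoidHom.comp
      (φ.comp (AddEquiv.ulift : ULift.{u + 1} M ≃+ M).toAddMonoidHom)))

theorem cm_comp (X : Scheme.{u}) {M M' M'' : Type} [AddCommGroup M] [AddCommGroup M']
    [AddCommGroup M''] (φ : M →+ M') (ψ : M' →+ M'') : cm X φ ≫ cm X ψ = cm X (ψ.comp φ) := by
  unfold cm
  rw [← Functor.map_comp]
  rfl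

theorem cm_id (X : Scheme.{u}) (M : Type) [AddCommGroup M] :
    cm X (AddMonoidHom.id M) = 𝟙 (EtCoh.const X M) :=
  CategoryTheory.Functor.map_id _ _

theorem cm_zero (X : Scheme.{u}) (M M' : Type) [AddCommGroup M] [AddCommGroup M'] :
    cm X (0 : M →+ M') = 0 := by
  have := additive_constantSheaf X
  exact Functor.map_zero (constantSheaf X.smallEtaleTopology AddCommGrpCat.{u + 1}) _ _

theorem exists_taut (X : Scheme.{u}) (n : ℕ) (hn : 0 < n) (r : ℕ)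
    (e : Fin r → HH X (EtCoh.const X (ZMod n)) 1) :
    ∃ (E : EtCoh.Ab X) (i : EtCoh.const X (ZMod n) ⟶ E) (p : E ⟶ EtCoh.const X (Fin r → ZMod n))
      (w : i ≫ p = 0) (hS : (ShortComplex.mk i p w).ShortExact),
      ∀ a, ∃ b : EtCoh.const X ℤ ⟶ EtCoh.const X (Fin r → ZMod n),
        (Ext.mk₀ b).comp hS.extClass (zero_add 1) = e a := by
  obtain ⟨w, hS⟩ := const_shortExact X n hn
  have : NeZero n := ⟨hn.ne'⟩
  have hG : n • 𝟙 (EtCoh.const X (ZMod n)) = 0 :=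
    (Groth.Agent.Etcore.PrimeFilt.killedBy_iff n _).1
      (Groth.Agent.Etrest.ConstBasic.killedBy_const X (ZMod n) n (fun x => by
        rw [nsmul_eq_mul, ZMod.natCast_self, zero_mul]))
  obtain ⟨E, i, p, w', hS', h⟩ := exists_ext n (zq X n) w hS hG
    (fun a : Fin r => cm X (AddMonoidHom.single (fun _ : Fin r => ZMod n) a))
    (fun a : Fin r => cm X (Pi.evalAddMonoidHom (fun _ : Fin r => ZMod n) a))
    (fun a => by
      rw [cm_comp, ← cm_id]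
      congr 1
      ext
      simp)
    (fun a b hab => by
      rw [cm_comp, ← cm_zero]
      congr 1
      ext
      simp [hab]) e
  exact ⟨E, i, p, w', hS', fun a => ⟨_, h a⟩⟩

end Sheaf

end K806.TautExt
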