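import Groth.Agent.EtTr.K806.GalExp
import Groth.Agent.EtTr.K806.GalKill
import Groth.Agent.EtTr.K806.GalDeg
import Groth.Agent.EtTr.K806.TautExt
import Groth.Agent.EtpbcA.FLCExact

/-!
# A connected finite étale covering of degree dividing a power of `n` killing `H¹(X, ℤ/n)`
-/

set_option autoImplicit false
universe u

open CategoryTheory CategoryTheory.Limits AlgebraicGeometry Opposite Abelian
open scoped Groth.Agent.Etcore.EtInst
open Groth.Agent.Etcore.EtInst

namespace K806.KillCover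

open Groth.Agent.Etcore Groth.Agent.Lefpen.H534.IsoTorsor

attribute [local instance] HQ.pfl

theorem exists_cover (X : Scheme.{u}) [ConnectedSpace X] [IsLocallyNoetherian X] (n : ℕ)
    (hn : 0 < n) (hfin : Finite (HH X (EtCoh.const X (ZMod n)) 1)) :
    ∃ (A : X.Etale) (_ : IsFinite A.hom) (_ : ConnectedSpace A.left),
      Function.Surjective A.hom ∧ (∃ m : ℕ, ∀ x : X, A.hom.finrank x ∣ n ^ m) ∧
      ∀ e : HH X (EtCoh.const X (ZMod n)) 1, HpullCalc.hp A.hom (EtCoh.const X (ZMod n)) 1 e = 0 := by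
  have : NeZero n := ⟨hn.ne'⟩
  obtain ⟨r, ⟨f⟩⟩ := Finite.exists_equiv_fin (HH X (EtCoh.const X (ZMod n)) 1)
  obtain ⟨E, i, p, w, hS, hb⟩ := K806.TautExt.exists_taut X n hn r (fun a => f.symm a)
  have h1 : EtCoh.IsFiniteLocallyConstant (EtCoh.const X (ZMod n)) :=
    Groth.Agent.Etrest.ConstBasic.isFiniteLocallyConstant_const X (ZMod n)
  have h3 : EtCoh.IsFiniteLocallyConstant (EtCoh.const X (Fin r → ZMod n)) :=
    Groth.Agent.Etrest.ConstBasic.isFiniteLocallyConstant_const X (Fin r → ZMod n)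
  have h2 : EtCoh.IsFiniteLocallyConstant E :=
    Groth.Agent.EtpbcA.FLCExact.flc_extension hS h1 h3
  obtain ⟨D⟩ := Gal.nonempty E h2
  refine ⟨D.A, D.isFinite, D.conn, K806.GalDeg.surjective_hom D, ?_, ?_⟩
  · have hk : EtCoh.KilledBy n (EtCoh.const X (ZMod n)) :=
      Groth.Agent.Etrest.ConstBasic.killedBy_const X (ZMod n) n (fun x => by
        rw [nsmul_eq_mul, ZMod.natCast_self, zero_mul])
    have : Finite (D.M ≃ₗ[ℤ] D.M) :=
      Finite.of_injective (fun g : D.M ≃ₗ[ℤ] D.M => (g : D.M → D.M)) DFunLike.coe_injective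
    have : Finite D.G := inferInstance
    obtain ⟨m, hm⟩ := K806.GalExp.card_dvd_pow (G := D.G) hn.ne'
      (K806.GalExp.pow_eq_one hS D (fun g c => K806.FlcConn.res_endo g c)
        (fun g c => K806.FlcConn.res_endo g c) hk)
    exact ⟨m, fun x => by rw [K806.GalDeg.finrank_eq D x]; exact hm⟩
  · intro e
    obtain ⟨b, hb'⟩ := hb (f e)
    rw [Equiv.symm_apply_apply] at hb'
    rw [← hb']
    exact K806.GalKill.hp_gal_eq_zero hS h3 D (Ext.mk₀ b)

end K806.KillCover
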