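import Groth.Agent.EtTr.K806.DDual
import Groth.Agent.Etdl.H834.FibDual

/-!
# Natural duality for the sheaves `L[W]`

If `K` is dualizing (for `F ↦ H^*(P, j_! F)`) in degree `N` and isomorphic to `ℤ/n`, then for `m + q = N` there
are homomorphisms `δ W : H^m(P, j_! L[W]) → Hom(Ext^q(ℤ[W], ℤ/n), ℤ/n)`, natural in `W`, bijective if the source
is finite.
-/

set_option autoImplicit false
universe u
open CategoryTheory CategoryTheory.Limits CategoryTheory.Abelian AlgebraicGeometry Opposite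

namespace K806.NatDual

open Groth.Agent.Sga4B Groth.Agent.Sga4B.DualShape Groth.Agent.EtpbcA Groth.Agent.Etrest.ModAb
  Groth.Agent.Sga4B.LMLS Groth.Agent.Etcore Groth.Agent.Sga4B.DualAsm Groth.Agent.Sga4B.DualFormal
  Groth.Agent.Sga4B.ModExtU Groth.Agent.Etdl.H834.FibDual

variable {X P : Scheme.{u}} {n : ℕ}

section Ext

variable {K : EtModW.Mod (Lam.{u} n) X} (i : (ab (Lam.{u} n) X).obj K ≅ EtCoh.const X (ZMod n))

theorem cmp_add (U : X.Etale) (F : EtModW.Mod (Lam.{u} n) X) (q : ℕ)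
    (e e' : Ext.{u + 1} (LFree.LM (Lam.{u} n) U) F q) :
    cmp U F q (e + e') = cmp U F q e + cmp U F q e' := by
  unfold Groth.Agent.Etdl.H834.FibDual.cmp
  rw [Ext.mapExactFunctor_add, Ext.comp_add]

/-- `Ext^q_Λ(Λ[W], K) ≃ Ext^q(ℤ[W], ℤ/n)`. -/
noncomputable def cmpE (W : X.Etale) (q : ℕ) :
    Ext.{u + 1} (LFree.LM (Lam.{u} n) W) K q ≃+ Ext.{u + 1} (ZS W) (EtCoh.const X (ZMod n)) q where
  toFun e := (cmp W K q e).comp (Ext.mk₀ i.hom) (add_zero q)
  invFun e := (Equiv.ofBijective _ (cmp_bijective W K q)).symm (e.comp (Ext.mk₀ i.inv) (add_zero q))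
  left_inv e := by
    rw [Equiv.symm_apply_eq, Ext.comp_assoc_of_third_deg_zero, Ext.mk₀_comp_mk₀, i.hom_inv_id,
      Ext.comp_mk₀_id]
    rfl
  right_inv e := by
    have h := (Equiv.ofBijective _ (cmp_bijective W K q)).apply_symm_apply
      (e.comp (Ext.mk₀ i.inv) (add_zero q))
    have h' : cmp W K q ((Equiv.ofBijective _ (cmp_bijective W K q)).symm
      (e.comp (Ext.mk₀ i.inv) (add_zero q))) = e.comp (Ext.mk₀ i.inv) (add_zero q) := h
    change (cmp W K q ((Equiv.ofBijective _ (cmp_bijective W K q)).symm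
      (e.comp (Ext.mk₀ i.inv) (add_zero q)))).comp (Ext.mk₀ i.hom) (add_zero q) = e
    rw [h', Ext.comp_assoc_of_third_deg_zero, Ext.mk₀_comp_mk₀, i.inv_hom_id, Ext.comp_mk₀_id]
  map_add' e e' := by rw [cmp_add, Ext.add_comp]

theorem cmpE_apply (W : X.Etale) (q : ℕ) (e : Ext.{u + 1} (LFree.LM (Lam.{u} n) W) K q) :
    cmpE i W q e = (cmp W K q e).comp (Ext.mk₀ i.hom) (add_zero q) := rfl

theorem cmpE_map {W W' : X.Etale} (g : W' ⟶ W) (q : ℕ)
    (e : Ext.{u + 1} (LFree.LM (Lam.{u} n) W) K q) :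
    cmpE i W' q ((Ext.mk₀ (LFree.map g)).comp e (zero_add q)) =
      (Ext.mk₀ (ZSmap g)).comp (cmpE i W q e) (zero_add q) := by
  rw [cmpE_apply, cmpE_apply, cmp_map, Ext.comp_assoc_of_third_deg_zero]

theorem cmpE_symm_map {W W' : X.Etale} (g : W' ⟶ W) (q : ℕ)
    (e : Ext.{u + 1} (ZS W) (EtCoh.const X (ZMod n)) q) :
    (cmpE i W' q).symm ((Ext.mk₀ (ZSmap g)).comp e (zero_add q)) =
      (Ext.mk₀ (LFree.map g)).comp ((cmpE i W q).symm e) (zero_add q) := by
  rw [AddEquiv.symm_apply_eq, cmpE_map, AddEquiv.apply_symm_apply]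

end Ext

variable (j : X ⟶ P) [Etale j] {N : ℕ} {K : EtModW.Mod (Lam.{u} n) X}
  (tr : Ext.{u + 1} (Z P) ((Psi j n).obj K) N →+ E.{u} n)

/-- `H^m(P, j_! L[W]) → Ext^m(ℤ, Ψ Λ[W])`. -/
noncomputable def toPsi (m : ℕ) (W : X.Etale) :
    (EtCoh.HF P m).obj ((EtShriek.extZero j).obj (LS n W)) ≃+
      Ext.{u + 1} (Z P) ((Psi j n).obj (LFree.LM (Lam.{u} n) W)) m :=
  ((Functor.isoWhiskerRight (isoLSF (X := X) n)
      (EtShriek.extZero j ⋙ EtCoh.HF P m)).symm.app W).addCommGroupIsoToAddEquiv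

theorem toPsi_map (m : ℕ) {W W' : X.Etale} (g : W' ⟶ W)
    (x : (EtCoh.HF P m).obj ((EtShriek.extZero j).obj (LS n W'))) :
    toPsi j m W ((EtCoh.HF P m).map ((EtShriek.extZero j).map (LSmap n g)) x) =
      (toPsi j m W' x).comp (Ext.mk₀ ((Psi j n).map (LFree.map g))) (add_zero m) := by
  have h := (Functor.isoWhiskerRight (isoLSF (X := X) n)
    (EtShriek.extZero j ⋙ EtCoh.HF P m)).symm.hom.naturality g
  exact ConcreteCategory.congr_hom h x

variable {tr}

/-- The duality map, on the `Ext` side. -/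
noncomputable def δ' {q m : ℕ} (h : m + q = N)
    (i : (ab (Lam.{u} n) X).obj K ≅ EtCoh.const X (ZMod n))
    (tr : Ext.{u + 1} (Z P) ((Psi j n).obj K) N →+ E.{u} n) (W : X.Etale) :
    Ext.{u + 1} (Z P) ((Psi j n).obj (LFree.LM (Lam.{u} n) W)) m →+
      (Ext.{u + 1} (ZS W) (EtCoh.const X (ZMod n)) q →+ ZMod n) :=
  AddMonoidHom.flip (((AddMonoidHom.compHom (AddEquiv.ulift (α := ZMod n)).toAddMonoidHom).comp
    (phi (Psi j n) (Z P) tr (LFree.LM (Lam.{u} n) W) h)).comp (cmpE i W q).symm.toAddMonoidHom)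

/-- The duality map. -/
noncomputable def δ {q m : ℕ} (h : m + q = N)
    (i : (ab (Lam.{u} n) X).obj K ≅ EtCoh.const X (ZMod n))
    (tr : Ext.{u + 1} (Z P) ((Psi j n).obj K) N →+ E.{u} n) (W : X.Etale) :
    (EtCoh.HF P m).obj ((EtShriek.extZero j).obj (LS n W)) →+
      (Ext.{u + 1} (ZS W) (EtCoh.const X (ZMod n)) q →+ ZMod n) :=
  (δ' j h i tr W).comp (toPsi j m W).toAddMonoidHom

theorem δ_apply {q m : ℕ} (h : m + q = N)
    (i : (ab (Lam.{u} n) X).obj K ≅ EtCoh.const X (ZMod n)) (W : X.Etale)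
    (x : (EtCoh.HF P m).obj ((EtShriek.extZero j).obj (LS n W)))
    (e : Ext.{u + 1} (ZS W) (EtCoh.const X (ZMod n)) q) :
    δ j h i tr W x e = (phi (Psi j n) (Z P) tr (LFree.LM (Lam.{u} n) W) h ((cmpE i W q).symm e)
      (toPsi j m W x)).down := rfl

/-- Naturality of the duality map. -/
theorem δ_map {q m : ℕ} (h : m + q = N)
    (i : (ab (Lam.{u} n) X).obj K ≅ EtCoh.const X (ZMod n)) {W W' : X.Etale} (g : W' ⟶ W)
    (x : (EtCoh.HF P m).obj ((EtShriek.extZero j).obj (LS n W')))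
    (e : Ext.{u + 1} (ZS W) (EtCoh.const X (ZMod n)) q) :
    δ j h i tr W ((EtCoh.HF P m).map ((EtShriek.extZero j).map (LSmap n g)) x) e =
      δ j h i tr W' x ((Ext.mk₀ (ZSmap g)).comp e (zero_add q)) := by
  rw [δ_apply, δ_apply, toPsi_map, cmpE_symm_map, phi_comp]

/-- Bijectivity of the duality map. -/
theorem δ_bijective (hn : 0 < n) {q m : ℕ} (h : m + q = N)
    (hb : ∀ F : EtModW.Mod (Lam.{u} n) X, Function.Bijective (phi (Psi j n) (Z P) tr F h))
    (i : (ab (Lam.{u} n) X).obj K ≅ EtCoh.const X (ZMod n)) (W : X.Etale)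
    [Finite ((EtCoh.HF P m).obj ((EtShriek.extZero j).obj (LS n W)))] :
    Function.Bijective (δ j h i tr W) := by
  have f0 : Finite (Ext.{u + 1} (Z P) ((Psi j n).obj (LFree.LM (Lam.{u} n) W)) m) :=
    Finite.of_equiv _ (toPsi j m W).toEquiv
  let φ : Ext.{u + 1} (ZS W) (EtCoh.const X (ZMod n)) q ≃+
      (Ext.{u + 1} (Z P) ((Psi j n).obj (LFree.LM (Lam.{u} n) W)) m →+ ZMod n) :=
    ((cmpE i W q).symm.trans (AddEquiv.ofBijective _ (hb (LFree.LM (Lam.{u} n) W)))).trans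
      { toFun := fun f => AddEquiv.ulift.toAddMonoidHom.comp f
        invFun := fun f => AddEquiv.ulift.symm.toAddMonoidHom.comp f
        left_inv := fun f => by ext x; rfl
        right_inv := fun f => by ext x; rfl
        map_add' := fun f g => by ext x; rfl }
  let ψ : Ext.{u + 1} (Z P) ((Psi j n).obj (LFree.LM (Lam.{u} n) W)) m →+
      (Ext.{u + 1} (ZS W) (EtCoh.const X (ZMod n)) q →+ ZMod n) :=
    (δ j h i tr W).comp (toPsi j m W).symm.toAddMonoidHom
  have hψ : ∀ a b, ψ a b = φ b a := by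
    intro a b
    change (phi (Psi j n) (Z P) tr (LFree.LM (Lam.{u} n) W) h ((cmpE i W q).symm b)
      (toPsi j m W ((toPsi j m W).symm a))).down = _
    rw [AddEquiv.apply_symm_apply]
    rfl
  have hbij := K806.DDual.bijective_of_perfect n hn.ne' (fun x => nsmul_ext j _ m x) φ ψ hψ
  have h2 : ⇑(δ j h i tr W) = ⇑ψ ∘ ⇑(toPsi j m W) := by
    funext x
    change _ = δ j h i tr W ((toPsi j m W).symm (toPsi j m W x))
    rw [AddEquiv.symm_apply_apply]
  rw [h2]
  exact hbij.comp (toPsi j m W).bijective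

end K806.NatDual
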