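import Groth.Agent.Etcore.ShriekToPush
import Groth.Agent.Etbase.StalkPush

/-!
# `j_! ⟶ j_*` is an isomorphism for `j` finite étale
-/

set_option autoImplicit false
universe u

open CategoryTheory CategoryTheory.Limits AlgebraicGeometry Opposite

namespace K806.TauIso

open Groth.Agent.Etcore.ShriekToPush Groth.Agent.Etbase.StalkPush Groth.Agent.Etbase.FinLiftSch
  Groth.Agent.Etbase.StalkPull Groth.Agent.Etcore.ShriekUnique Groth.Agent.Etcore.ShriekStalk
  Groth.Agent.Etcore.Stalks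

variable {U X : Scheme.{u}} (j : U ⟶ X) {Ω : Type u} [Field Ω]

theorem fiberIso_eq_lft [IsSepClosed Ω] (ζ : Spec (CommRingCat.of Ω) ⟶ U) (V : X.Etale)
    (v : (Scheme.pointSmallEtale (ζ ≫ j)).fiber.obj V) :
    (fiberIso j ζ).hom.app V v = lft j ζ rfl v := by
  apply pt_ext
  apply pr_ext
  · rw [lft_pr1]
    exact pullback.lift_fst _ _ _
  · rw [lft_pr2]
    exact pullback.lift_snd _ _ _

theorem evPush_eq_cmp [IsSepClosed Ω] (u : Spec (CommRingCat.of Ω) ⟶ U) (F : EtCoh.Ab U)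
    (z : (EtCoh.stalk (u ≫ j)).obj ((EtCoh.push j).obj F)) :
    (evPush j u).app F z = cmp j u rfl F z := by
  obtain ⟨V, v, s, rfl⟩ := exists_germ (u ≫ j) _ z
  refine (evPush_germ j u F V v s).trans ?_
  rw [fiberIso_eq_lft]
  exact (germ_cmp_apply j u rfl F V v s).symm

theorem evPush'_eq_cmp [IsSepClosed Ω] (ξ : Spec (CommRingCat.of Ω) ⟶ X)
    (u : Spec (CommRingCat.of Ω) ⟶ U) (hu : u ≫ j = ξ) (F : EtCoh.Ab U)
    (z : (EtCoh.stalk ξ).obj ((EtCoh.push j).obj F)) :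
    evPush' j ξ u hu F z = cmp j u hu F z := by
  subst hu
  exact evPush_eq_cmp j u F z

variable [Etale j] [IsFinite j] [EtShriek.JCont j]

theorem surjective_stalk_tau [IsAlgClosed Ω] (ξ : Spec (CommRingCat.of Ω) ⟶ X) (F : EtCoh.Ab U) :
    Function.Surjective ((EtCoh.stalk ξ).map ((tau j).app F)) := by
  classical
  intro z
  have hfin : Finite {ζ : Spec (CommRingCat.of Ω) ⟶ U // ζ ≫ j = ξ} := finite_points j ξ
  have := Fintype.ofFinite {ζ : Spec (CommRingCat.of Ω) ⟶ U // ζ ≫ j = ξ}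
  refine ⟨∑ ζ : {ζ : Spec (CommRingCat.of Ω) ⟶ U // ζ ≫ j = ξ},
    (stalkToExtZero j ξ ζ.1 ζ.2).app F (evPush' j ξ ζ.1 ζ.2 F z), ?_⟩
  rw [← sub_eq_zero]
  apply injective_cmp j F
  intro u hu
  rw [← evPush'_eq_cmp j ξ u hu F, map_sub, map_sum, map_sum, sub_eq_zero,
    Finset.sum_eq_single (⟨u, hu⟩ : {ζ : Spec (CommRingCat.of Ω) ⟶ U // ζ ≫ j = ξ})]
  · exact ConcreteCategory.congr_hom (eval_self' j ξ u hu F) (evPush' j ξ u hu F z)
  · intro ζ _ hne
    exact ConcreteCategory.congr_hom (eval_ne' j ξ u ζ.1 hu ζ.2 (fun h => hne (Subtype.ext h)) F)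
      (evPush' j ξ ζ.1 ζ.2 F z)
  · intro h
    exact absurd (Finset.mem_univ _) h

theorem epi_tau (F : EtCoh.Ab U) : Epi ((tau j).app F) := by
  apply Preadditive.epi_of_isZero_cokernel
  apply isZero_of_stalk
  intro Ω _ _ ξ
  refine ⟨fun a b => ?_⟩
  have h0 : ∀ a : (EtCoh.stalk ξ).obj (cokernel ((tau j).app F)), a = 0 := by
    intro a
    have he : Epi ((EtCoh.stalk ξ).map (cokernel.π ((tau j).app F))) := inferInstance
    obtain ⟨z, rfl⟩ := (AddCommGrpCat.epi_iff_surjective _).1 he a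
    obtain ⟨y, rfl⟩ := surjective_stalk_tau j ξ F z
    have h1 : (EtCoh.stalk ξ).map ((tau j).app F) ≫ (EtCoh.stalk ξ).map (cokernel.π ((tau j).app F)) = 0 := by
      rw [← Functor.map_comp, cokernel.condition, Functor.map_zero]
    exact ConcreteCategory.congr_hom h1 y
  rw [h0 a, h0 b]

/-- For a finite étale morphism `j` the map `j_! F ⟶ j_* F` is an isomorphism. -/
theorem isIso_tau_app (F : EtCoh.Ab U) : IsIso ((tau j).app F) := by
  have := epi_tau j F
  have := mono_tau j F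
  exact isIso_of_mono_of_epi _

theorem isIso_tau : IsIso (tau j) := by
  have := isIso_tau_app j
  exact NatIso.isIso_of_isIso_app _

end K806.TauIso
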