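import Groth.Agent.Etcore.ShriekToPush
import Groth.Agent.Etdl.H427.UniqMain
import Groth.Prelude.Def_EtTrace

/-!
# The trace of a finite étale morphism and the counit of `j_! ⊣ j⁻¹`

* `tr_eq`: a finite flat trace family is `TraceEval.tr`.
* `tau_tr`: for `f` finite étale, `f_! f⁻¹ F ⟶ f_* f⁻¹ F ⟶ F` (`ShriekToPush.tau`, the trace) is the counit of
  `f_! ⊣ f⁻¹`.
-/

set_option autoImplicit false
universe u

open CategoryTheory CategoryTheory.Limits AlgebraicGeometry Opposite

namespace K806.TrCounit

open Groth.Agent.Sga4B.EtUnit Groth.Agent.Sga4B.UnitInj Groth.Agent.Sga4B.TraceRel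
open Groth.Agent.Sga4B.ClopenRank Groth.Agent.Sga4B.TraceMap
open Groth.Agent.Etcore.ShriekToPush Groth.Agent.Etcore.ShriekBasic Groth.Agent.Etcore.ClopenExt
open Groth.Agent.Etdl.H427 Groth.Agent.Etdl.H427.TraceEval

/-- A finite flat trace family is the explicit one. -/
theorem tr_eq (Tr : EtTr.TrData EtTr.FinFlat.{u}) (hTr : EtTr.IsFinFlatTrace Tr)
    {X S : Scheme.{u}} (f : X ⟶ S) [IsFinite f] [Flat f] [LocallyOfFinitePresentation f]
    (hf : EtTr.FinFlat f) : Tr f hf = tr f := by
  refine UniqMain.eq_tr (fun X S f _ _ _ => Tr f (EtTr.finFlat_of f)) ?_ ?_ ?_ f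
  · intro X S X' S' f g f' g' hc _ _ _ _ _ _ F
    exact hTr.baseChange f g f' g' hc _ _ F
  · intro X Y S h g _ _ _ _ _ _ _ _ _ F
    exact hTr.comp h g _ _ _ F
  · intro X S f _ _ _ n hn F
    exact hTr.norm f _ (EtTr.finFlat_of f) n hn F

section Etale

variable {U X : Scheme.{u}} (f : U ⟶ X) [Etale f] [EtShriek.JCont f]

/-- A section of `f⁻¹ F` over `V` as a section of `F` over `V ⟶ U ⟶ X`. -/
noncomputable def rsec (F : EtCoh.Ab X) (V : U.Etale) :
    EtCoh.sect ((EtCoh.pull f).obj F) V →+ EtCoh.sect F ((EtShriek.compEtale f).obj V) :=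
  (((pullIsoRestr f).hom.app F).hom.app (op V)).hom

/-- The unit section under `f⁻¹ F ≅ F|_U`. -/
theorem rsec_usec (F : EtCoh.Ab X) (V : X.Etale) (m : EtCoh.sect F V) :
    rsec f F ((EtCoh.bc f).obj V) (usec f F V m) =
      F.obj.map ((compBcAdj f).counit.app V).op m := by
  have h := Adjunction.unit_leftAdjointUniq_hom_app (EtCoh.pullPushAdj f) (restrPushAdj f) F
  have h2 := congrArg (fun k => k.hom.app (op V) m) h
  exact h2

theorem rsec_nat (F : EtCoh.Ab X) {V W : U.Etale} (g : W ⟶ V)
    (t : EtCoh.sect ((EtCoh.pull f).obj F) V) :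
    rsec f F W (((EtCoh.pull f).obj F).obj.map g.op t) =
      F.obj.map ((EtShriek.compEtale f).map g).op (rsec f F V t) :=
  NatTrans.naturality_apply ((pullIsoRestr f).hom.app F).hom g.op t

theorem rsec_bijective (F : EtCoh.Ab X) (V : U.Etale) : Function.Bijective (rsec f F V) := by
  have h2 : IsIso (((pullIsoRestr f).hom.app F).hom.app (op V)) := by
    have : IsIso ((pullIsoRestr f).hom.app F).hom :=
      inferInstanceAs (IsIso ((sheafToPresheaf _ _).map ((pullIsoRestr f).hom.app F)))
    infer_instance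
  exact ConcreteCategory.bijective_of_isIso (((pullIsoRestr f).hom.app F).hom.app (op V))

/-- The section of `f⁻¹ F` over `V` given by a section of `F` over `V ⟶ U ⟶ X`, restricted along the graph. -/
theorem map_gr_usec (F : EtCoh.Ab X) (V : U.Etale)
    (m : EtCoh.sect F ((EtShriek.compEtale f).obj V)) :
    rsec f F V (((EtCoh.pull f).obj F).obj.map (gr f V).op
      (usec f F ((EtShriek.compEtale f).obj V) m)) = m := by
  have h := (compBcAdj f).left_triangle_components V
  rw [rsec_nat, rsec_usec, map_map_apply]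
  refine (congrArg (fun k => F.obj.map (Quiver.Hom.op k) m) h).trans ?_
  rw [op_id, CategoryTheory.Functor.map_id]
  rfl

end Etale

section FinEtale

variable {U X : Scheme.{u}} (f : U ⟶ X) [Etale f] [IsFinite f] [EtShriek.JCont f]

/-- colouring by the graph -/
noncomputable def col (V : U.Etale) :
    ((EtCoh.bc f).obj ((EtShriek.compEtale f).obj V)).left → ULift.{u} Bool :=
  open Classical in fun p => if p ∈ Set.range (gr f V).left then ⟨true⟩ else ⟨false⟩

omit [EtShriek.JCont f] [IsFinite f] in
theorem col_eq_true_iff (V : U.Etale) (p : ((EtCoh.bc f).obj ((EtShriek.compEtale f).obj V)).left) :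
    col f V p = ⟨true⟩ ↔ p ∈ Set.range (gr f V).left := by
  classical
  unfold col
  split_ifs with h
  · simp [h]
  · simp [h]

omit [EtShriek.JCont f] [IsFinite f] in
theorem col_eq_false_iff (V : U.Etale) (p : ((EtCoh.bc f).obj ((EtShriek.compEtale f).obj V)).left) :
    col f V p = ⟨false⟩ ↔ p ∉ Set.range (gr f V).left := by
  classical
  unfold col
  split_ifs with h
  · simp [h]
  · simp [h]

omit [EtShriek.JCont f] in
theorem isLocallyConstant_col (V : U.Etale) : IsLocallyConstant (col f V) := by
  have h := isClopen_gr f V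
  have ho : IsOpen (Set.range (gr f V).left) := by
    have := isOpenImmersion_left (gr f V) h.mono
    exact (Scheme.Hom.isOpenEmbedding (gr f V).left).isOpen_range
  rw [IsLocallyConstant.iff_isOpen_fiber]
  rintro ⟨b⟩
  cases b
  · have : (col f V) ⁻¹' {⟨false⟩} = (Set.range (gr f V).left)ᶜ := by
      ext p
      exact col_eq_false_iff f V p
    rw [this]
    exact h.closed.isOpen_compl
  · have : (col f V) ⁻¹' {⟨true⟩} = Set.range (gr f V).left := by
      ext p
      exact col_eq_true_iff f V p
    rw [this]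
    exact ho

omit [EtShriek.JCont f] in
theorem rk_col_true (V : U.Etale) (v : ((EtShriek.compEtale f).obj V).left) :
    rk (pr f ((EtShriek.compEtale f).obj V)) (col f V) (isLocallyConstant_col f V) ⟨true⟩ v = 1 := by
  have h := isClopen_gr f V
  have h1 := isOpenImmersion_left (gr f V) h.mono
  have hr : Set.range (gr f V).left =
      Set.range (piece (col f V) (isLocallyConstant_col f V) ⟨true⟩).ι := by
    rw [range_piece_ι]
    ext p
    exact (col_eq_true_iff f V p).symm
  let e := IsOpenImmersion.isoOfRangeEq (gr f V).left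
    (piece (col f V) (isLocallyConstant_col f V) ⟨true⟩).ι hr
  have he : e.hom ≫ (piece (col f V) (isLocallyConstant_col f V) ⟨true⟩).ι = (gr f V).left :=
    IsOpenImmersion.isoOfRangeEq_hom_fac _ _ _
  have h2 : e.hom ≫ (piece (col f V) (isLocallyConstant_col f V) ⟨true⟩).ι ≫
      pr f ((EtShriek.compEtale f).obj V) = 𝟙 _ := by
    rw [← Category.assoc, he]
    exact gr_fst f V
  have h3 : IsIso ((piece (col f V) (isLocallyConstant_col f V) ⟨true⟩).ι ≫
      pr f ((EtShriek.compEtale f).obj V)) := by
    have : IsIso (e.hom ≫ (piece (col f V) (isLocallyConstant_col f V) ⟨true⟩).ι ≫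
      pr f ((EtShriek.compEtale f).obj V)) := by
      rw [h2]
      exact IsIso.id (C := Scheme.{u}) _
    exact IsIso.of_isIso_comp_left e.hom _
  rw [rk, Scheme.Hom.finrank_eq_one_of_isIso]
  rfl

/-- the sections on the pieces -/
noncomputable def mcol (F : EtCoh.Ab X) (V : U.Etale) (s : EtCoh.sect ((EtCoh.pull f).obj F) V)
    (b : ULift.{u} Bool) : EtCoh.sect F ((EtShriek.compEtale f).obj V) :=
  cond b.down (rsec f F V s) 0

theorem split_extHom (F : EtCoh.Ab X) (V : U.Etale) (s : EtCoh.sect ((EtCoh.pull f).obj F) V) :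
    Split f F ((EtShriek.compEtale f).obj V)
      (extHom ((EtCoh.pull f).obj F) (gr f V) (isClopen_gr f V) s) (col f V)
      (mcol f F V s) := by
  rintro ⟨b⟩ W h hW
  cases b
  · have hd : Disjoint (Set.range h.left) (Set.range (gr f V).left) := by
      rw [Set.disjoint_left]
      rintro _ ⟨w, rfl⟩
      exact (col_eq_false_iff f V _).1 (hW w)
    rw [map_extHom_of_disjoint _ _ _ _ _ hd]
    refine Eq.symm ?_
    change ((EtCoh.pull f).obj F).obj.map h.op (usec f F ((EtShriek.compEtale f).obj V) 0) = 0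
    rw [map_zero, map_zero]
  · have hsub : Set.range h.left ⊆ Set.range (gr f V).left := by
      rintro _ ⟨w, rfl⟩
      exact (col_eq_true_iff f V _).1 (hW w)
    obtain ⟨k, rfl⟩ := exists_fac (gr f V) (isClopen_gr f V).mono h hsub
    change ((EtCoh.pull f).obj F).obj.map (k ≫ gr f V).op _ =
      ((EtCoh.pull f).obj F).obj.map (k ≫ gr f V).op
        (usec f F ((EtShriek.compEtale f).obj V) (rsec f F V s))
    rw [← map_map_apply, ← map_map_apply, map_extHom]
    congr 1
    apply (rsec_bijective f F V).1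
    rw [map_gr_usec]

/-- The trace of the extension by zero of a section from the graph. -/
theorem evt_extHom (F : EtCoh.Ab X) (V : U.Etale) (s : EtCoh.sect ((EtCoh.pull f).obj F) V) :
    evt f F ((EtShriek.compEtale f).obj V)
      (extHom ((EtCoh.pull f).obj F) (gr f V) (isClopen_gr f V) s) =
      rsec f F V s := by
  apply evt_eq_of_rel
  refine ⟨ULift.{u} Bool, inferInstance, col f V, isLocallyConstant_col f V, _,
    split_extHom f F V s, ?_⟩
  intro V' g r hne hr
  obtain ⟨w⟩ := hne
  have h1 : r ⟨true⟩ = 1 := by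
    rw [← hr ⟨true⟩ w, rk_col_true]
  rw [Finset.sum_eq_single (⟨true⟩ : ULift.{u} Bool)]
  · rw [h1, one_smul]
    rfl
  · rintro ⟨b⟩ _ hb
    cases b
    · change r ⟨false⟩ • F.obj.map g.op (0 : EtCoh.sect F ((EtShriek.compEtale f).obj V)) = 0
      rw [map_zero, smul_zero]
    · exact absurd rfl hb
  · intro h
    exact absurd (Finset.mem_univ _) h

/-- **The trace is the counit** of `f_! ⊣ f⁻¹`. -/
theorem tau_tr (F : EtCoh.Ab X) :
    (tau f).app ((EtCoh.pull f).obj F) ≫ (tr f).app F =
      (EtShriek.extZero f).map ((pullIsoRestr f).hom.app F) ≫ (EtShriek.extZeroAdj f).counit.app F := by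
  apply ((EtShriek.extZeroAdj f).homEquiv _ _).injective
  rw [Adjunction.homEquiv_naturality_right, Adjunction.homEquiv_naturality_left,
    Adjunction.homEquiv_unit, Adjunction.homEquiv_unit, unit_tau, Adjunction.right_triangle_components,
    Category.comp_id]
  apply Sheaf.hom_ext
  ext V s
  exact evt_extHom f F V.unop s

end FinEtale

end K806.TrCounit
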