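import Groth.Agent.EtTr.K806.TauIso
import Groth.Agent.EtTr.K806.TrCounit
import Groth.Agent.Sga4B.JFComp
import Groth.Agent.Etcore.HpullCalc

/-!
# `u_* u⁻¹ M ≅ M[X']` for `u : X' ⟶ X` finite étale, and the trace

`theta u M : u_! M ≅ u_* u⁻¹ M_X` (`u_! M = EtPBC.extZeroConst (self u) M`); the trace corresponds to the canonical
map `u_! M ⟶ M_X` (`theta_tr`).
-/

set_option autoImplicit false
universe u

open CategoryTheory CategoryTheory.Limits AlgebraicGeometry Opposite

namespace K806.Theta

open Groth.Agent.EtpbcA Groth.Agent.Sga4B Groth.Agent.Sga4B.DualShape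
open Groth.Agent.Sga4B.EtUnit
open Groth.Agent.Etcore.ShriekToPush Groth.Agent.Etcore.ShriekBasic
open Groth.Agent.Etcore.HpullCalc
open Groth.Agent.Etdl.H427 Groth.Agent.Etdl.H427.TraceEval K806.TrCounit K806.TauIso

variable {X' X : Scheme.{u}} (v : X' ⟶ X) [Etale v] [EtShriek.JCont v]

/-- `X'` as an étale `X`-scheme. -/
noncomputable abbrev self : X.Etale := (EtShriek.compEtale v).obj (EtCoh.top X')

variable (M : Type) [AddCommGroup M]

/-- Value of the map adjoint to `f : M_{X'} ⟶ v⁻¹ G` on the universal section. -/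
theorem eval_adj {G : EtCoh.Ab X}
    (f : (JF X' M).obj (EtCoh.top X') ⟶ (EtShriek.restrAlong v).obj G) (m : M) :
    (JFComp.toL M (EtShriek.compEtale v) (EtShriek.extZeroAdj v) (EtCoh.top X') ≫
      (EtShriek.extZero v).map f ≫ (EtShriek.extZeroAdj v).counit.app G).hom.app (op (self v))
        (Jshriek.univ (self v) M m) = f.hom.app (op (EtCoh.top X')) (Jshriek.univ (EtCoh.top X') M m) := by
  have h1 : (EtShriek.extZeroAdj v).unit.app ((JF X' M).obj (EtCoh.top X')) ≫
      (EtShriek.restrAlong v).map ((EtShriek.extZero v).map f ≫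
        (EtShriek.extZeroAdj v).counit.app G) = f := by
    have h := ((EtShriek.extZeroAdj v).homEquiv _ _).apply_symm_apply f
    rw [Adjunction.homEquiv_counit, Adjunction.homEquiv_unit] at h
    exact h
  have h2 := congrArg (fun k => k.hom.app (op (EtCoh.top X')) (Jshriek.univ (EtCoh.top X') M m)) h1
  refine Eq.trans ?_ h2
  change ((EtShriek.extZero v).map f ≫ (EtShriek.extZeroAdj v).counit.app G).hom.app (op (self v))
    ((JFComp.toL M (EtShriek.compEtale v) (EtShriek.extZeroAdj v) (EtCoh.top X')).hom.app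
      (op (self v)) (Jshriek.univ (self v) M m)) = _
  rw [JFComp.toL_univ]
  rfl

/-- The unit section `m` of the constant sheaf. -/
noncomputable def csec (Y : Scheme.{u}) (m : M) : EtCoh.sect (EtCoh.const Y M) (EtCoh.top Y) :=
  (EtCore.constAdj Y).unit.app (AddCommGrpCat.of (ULift.{u + 1} M)) ⟨m⟩

omit [Etale v] [EtShriek.JCont v] in
theorem pullConst_inv_csec (m : M) :
    (EtCore.pullConst v M).inv.hom.app (op (EtCoh.top X')) (csec M X' m) =
      ((EtCoh.pull v).obj (EtCoh.const X M)).obj.map (EtCore.bcTopIso v).inv.op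
        (usec v (EtCoh.const X M) (EtCoh.top X) (csec M X m)) := by
  have h := constAdj_homEquiv_pullConstIso_inv' v (AddCommGrpCat.of (ULift.{u + 1} M))
  rw [Adjunction.homEquiv_unit] at h
  exact congrArg (fun k => k.hom (⟨m⟩ : ULift.{u + 1} M)) h

theorem rsec_pullConst_inv (m : M) :
    rsec v (EtCoh.const X M) (EtCoh.top X')
      ((EtCore.pullConst v M).inv.hom.app (op (EtCoh.top X')) (csec M X' m)) =
      (EtCoh.const X M).obj.map (toTop (self v)).op (csec M X m) := by
  rw [pullConst_inv_csec, rsec_nat, rsec_usec]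
  refine (Groth.Agent.Sga4B.TraceRel.map_map_apply (EtCoh.const X M) _ _ _).trans ?_
  refine congrArg (fun k => (EtCoh.const X M).obj.map (Quiver.Hom.op k) (csec M X m)) ?_
  exact (EtCore.topIsTerminal X).hom_ext _ _

variable [IsFinite v]

/-- `u_! M ≅ u_* u⁻¹ M`. -/
noncomputable def theta : (JF X M).obj (self v) ≅
    (EtCoh.push v).obj ((EtCoh.pull v).obj (EtCoh.const X M)) :=
  haveI := isIso_tau_app v ((EtCoh.pull v).obj (EtCoh.const X M))
  ((JFComp.extZeroIso M v).app (EtCoh.top X')).symm ≪≫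
    (EtShriek.extZero v).mapIso (JFComp.topIso M X' ≪≫ (EtCore.pullConst v M).symm) ≪≫
    asIso ((tau v).app ((EtCoh.pull v).obj (EtCoh.const X M)))

theorem theta_hom : (theta v M).hom =
    JFComp.toL M (EtShriek.compEtale v) (EtShriek.extZeroAdj v) (EtCoh.top X') ≫
      (EtShriek.extZero v).map ((JFComp.topIso M X').hom ≫ (EtCore.pullConst v M).inv) ≫
      (tau v).app ((EtCoh.pull v).obj (EtCoh.const X M)) := rfl

/-- The trace under `theta`. -/
theorem theta_tr : (theta v M).hom ≫ (tr v).app (EtCoh.const X M) =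
    (JF X M).map (toTop (self v)) ≫ (JFComp.topIso M X).hom := by
  rw [theta_hom, Category.assoc, Category.assoc, tau_tr, ← Functor.map_comp_assoc]
  refine Jshriek.hom_ext (self v) (fun m => ?_)
  refine (eval_adj v M _ m).trans ?_
  change rsec v (EtCoh.const X M) (EtCoh.top X')
    ((EtCore.pullConst v M).inv.hom.app (op (EtCoh.top X'))
      ((JFComp.topIso M X').hom.hom.app (op (EtCoh.top X')) (Jshriek.univ (EtCoh.top X') M m))) =
    (JFComp.topIso M X).hom.hom.app (op (self v)) ((jMap M (toTop (self v))).hom.app (op (self v))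
      (Jshriek.univ (self v) M m))
  rw [jMap_univ, JFComp.topIso_hom_univ]
  refine (rsec_pullConst_inv v M m).trans ?_
  refine Eq.trans ?_ (NatTrans.naturality_apply (JFComp.topIso M X).hom.hom (toTop (self v)).op
    (Jshriek.univ (EtCoh.top X) M m)).symm
  rw [JFComp.topIso_hom_univ]
  rfl

end K806.Theta
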