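import Groth.Agent.EtTr.K806.NatDual
import Groth.Agent.EtTr.K806.Theta
import Groth.Agent.EtTr.K806.ExtU
import Groth.Agent.EtTr.K806.TrCounit

/-!
# Under Poincaré duality, the trace on `H^m_c` is the transpose of the pullback
-/

set_option autoImplicit false
universe u
open CategoryTheory CategoryTheory.Limits CategoryTheory.Abelian AlgebraicGeometry Opposite

namespace K806.TrDual

section Bridge

/-- `Ext` with the default instances. -/
noncomputable abbrev ExtD {X : Scheme.{u}} (A B : EtCoh.Ab X) (q : ℕ) := Ext.{u + 1} A B q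

open scoped Groth.Agent.Etcore.EtInst

/-- Change of instances. -/
noncomputable def br {X : Scheme.{u}} (A B : EtCoh.Ab X) (q : ℕ) : ExtD A B q ≃+ Ext.{u + 1} A B q :=
  AddEquiv.refl _

/-- Change of instances. -/
noncomputable def br2 {X : Scheme.{u}} (A : EtCoh.Ab X) (q : ℕ) :
    Groth.Agent.Etcore.EtInst.HH X A q ≃+ EtCoh.H X A q := AddEquiv.refl _

end Bridge

open Groth.Agent.Sga4B Groth.Agent.Sga4B.DualShape Groth.Agent.EtpbcA Groth.Agent.Etrest.ModAb
  Groth.Agent.Sga4B.LMLS Groth.Agent.Etcore Groth.Agent.Sga4B.DualAsm Groth.Agent.Sga4B.DualFormal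
  Groth.Agent.Sga4B.ModExtU K806.NatDual K806.Theta K806.ExtU K806.TrCounit
  Groth.Agent.Etdl.H427.TraceEval

attribute [local instance] HQ.pfl

/-- Transport of the dual along an equivalence. -/
def homCongr (n : ℕ) {A B : Type*} [AddCommGroup A] [AddCommGroup B] (e : A ≃+ B) :
    (A →+ ZMod n) ≃+ (B →+ ZMod n) where
  toFun f := f.comp e.symm.toAddMonoidHom
  invFun f := f.comp e.toAddMonoidHom
  left_inv f := by
    ext x
    change f (e.symm (e x)) = f x
    rw [e.symm_apply_apply]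
  right_inv f := by
    ext x
    change f (e (e.symm x)) = f x
    rw [e.apply_symm_apply]
  map_add' _ _ := rfl

theorem homCongr_apply (n : ℕ) {A B : Type*} [AddCommGroup A] [AddCommGroup B] (e : A ≃+ B)
    (f : A →+ ZMod n) (b : B) : homCongr n e f b = f (e.symm b) := rfl

/-- The formal part of the assembly. -/
theorem assemble (n : ℕ) {H Hp L L' E E' C C' : Type*} [AddCommGroup H] [AddCommGroup Hp]
    [AddCommGroup L] [AddCommGroup L'] [AddCommGroup E] [AddCommGroup E'] [AddCommGroup C]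
    [AddCommGroup C'] (e1 : H ≃+ L) (e2 : Hp ≃+ L') (δ1 : L →+ (E →+ ZMod n))
    (b1 : Function.Bijective δ1) (δ2 : L' →+ (E' →+ ZMod n)) (b2 : Function.Bijective δ2)
    (t : E ≃+ C) (r : E' ≃+ C') (T : Hp →+ H) (S : L' → L) (U : E → E') (V : C →+ C')
    (hT : ∀ y, e1 (T (e2.symm y)) = S y) (hδ : ∀ y e, δ1 (S y) e = δ2 y (U e))
    (hV : ∀ e, r (U e) = V (t e)) :
    ∃ (α : H ≃+ (C →+ ZMod n)) (α' : Hp ≃+ (C' →+ ZMod n)), ∀ x, α (T x) = (α' x).comp V := by
  refine ⟨(e1.trans (AddEquiv.ofBijective δ1 b1)).trans (homCongr n t),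
    (e2.trans (AddEquiv.ofBijective δ2 b2)).trans (homCongr n r), fun x => ?_⟩
  ext e
  change δ1 (e1 (T x)) (t.symm e) = δ2 (e2 x) (r.symm (V e))
  obtain ⟨y, rfl⟩ := e2.symm.surjective x
  obtain ⟨e', rfl⟩ := t.surjective e
  rw [AddEquiv.apply_symm_apply, AddEquiv.symm_apply_apply, ← hV, AddEquiv.symm_apply_apply, hT, hδ]

variable {X X' P : Scheme.{u}} {n : ℕ}

/-- The identity of `X'`, as a morphism to the total space of `self v`. -/
noncomputable def idself (v : X' ⟶ X) [Etale v] [EtShriek.JCont v] : X' ⟶ (self v).left := 𝟙 X'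

instance (v : X' ⟶ X) [Etale v] [EtShriek.JCont v] : IsIso (idself v) :=
  inferInstanceAs (IsIso (𝟙 X'))

theorem hself (v : X' ⟶ X) [Etale v] [EtShriek.JCont v] : idself v ≫ (self v).hom = v := by
  have h : (self v).hom = v := Category.id_comp _
  exact (Category.id_comp _).trans h

section R

open scoped Groth.Agent.Etcore.EtInst

/-- `Ext^q(ℤ[X'], F) ≃ H^q(X', v⁻¹ F)`. -/
noncomputable def rE (v : X' ⟶ X) [Etale v] [EtShriek.JCont v] (F : EtCoh.Ab X) (q : ℕ) :
    ExtD (ZS (self v)) F q ≃+ EtCoh.H X' ((EtCoh.pull v).obj F) q :=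
  ((br (ZS (self v)) F q).trans (AddEquiv.ofBijective (rcm (W := self v) v (idself v) (hself v) F q)
    (rcm_bijective (W := self v) v (idself v) (hself v) F q))).trans (br2 ((EtCoh.pull v).obj F) q)

/-- `Ext^q(ℤ[X], F) ≃ H^q(X, F)`. -/
noncomputable def tE (F : EtCoh.Ab X) (q : ℕ) :
    ExtD (ZS (EtCoh.top X)) F q ≃+ EtCoh.H X F q :=
  ((br (ZS (EtCoh.top X)) F q).trans (toH F q)).trans (br2 F q)

theorem rE_eq (v : X' ⟶ X) [Etale v] [EtShriek.JCont v] (F : EtCoh.Ab X) (q : ℕ)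
    (e : ExtD (ZS (EtCoh.top X)) F q) (e' : ExtD (ZS (self v)) F q)
    (he : br _ _ q e' = (Ext.mk₀ (ZSmap (DualShape.toTop (self v)))).comp (br _ _ q e) (zero_add q)) :
    rE v F q e' = br2 _ q (HpullCalc.hp v F q ((br2 _ q).symm (tE F q e))) := by
  change br2 _ q (rcm (W := self v) v (idself v) (hself v) F q (br _ _ q e')) =
    br2 _ q (HpullCalc.hp v F q ((br2 _ q).symm (br2 _ q (toH F q (br _ _ q e)))))
  rw [AddEquiv.symm_apply_apply, he, rcm_toTop]

end R

theorem rE_comp (v : X' ⟶ X) [Etale v] [EtShriek.JCont v] (F : EtCoh.Ab X) (q : ℕ)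
    (e : Ext.{u + 1} (ZS (EtCoh.top X)) F q) :
    rE v F q ((Ext.mk₀ (ZSmap (DualShape.toTop (self v)))).comp e (zero_add q)) =
      br2 _ q (HpullCalc.hp v F q ((br2 _ q).symm (tE F q e))) :=
  rE_eq v F q e _ rfl

theorem rE_Hpull (v : X' ⟶ X) [Etale v] [EtShriek.JCont v] (F : EtCoh.Ab X) (q : ℕ)
    (e : Ext.{u + 1} (ZS (EtCoh.top X)) F q) :
    rE v F q ((Ext.mk₀ (ZSmap (DualShape.toTop (self v)))).comp e (zero_add q)) =
      EtCore.Hpull v F q (tE F q e) :=
  rE_comp v F q e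

theorem exists_equiv (j : X ⟶ P) [Etale j] [EtShriek.JCont j] (hn : 0 < n)
    (v : X' ⟶ X) [IsFinite v] [Etale v] [EtShriek.JCont v]
    {K : EtModW.Mod (Lam.{u} n) X} {q m N : ℕ} (h : m + q = N)
    (tr' : Ext.{u + 1} (Z P) ((Psi j n).obj K) N →+ E.{u} n)
    (hb : ∀ F : EtModW.Mod (Lam.{u} n) X, Function.Bijective (phi (Psi j n) (Z P) tr' F h))
    (i : (ab (Lam.{u} n) X).obj K ≅ EtCoh.const X (ZMod n))
    (f1 : Finite ((EtCoh.HF P m).obj ((EtShriek.extZero j).obj (LS n (EtCoh.top X)))))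
    (f2 : Finite ((EtCoh.HF P m).obj ((EtShriek.extZero j).obj (LS n (self v))))) :
    ∃ (α : (EtCoh.HF P m).obj ((EtShriek.extZero j).obj (EtCoh.const X (ZMod n))) ≃+
        (EtCoh.H X (EtCoh.const X (ZMod n)) q →+ ZMod n))
      (α' : (EtCoh.HF P m).obj ((EtShriek.extZero j).obj
          ((EtCoh.push v).obj ((EtCoh.pull v).obj (EtCoh.const X (ZMod n))))) ≃+
        (EtCoh.H X' ((EtCoh.pull v).obj (EtCoh.const X (ZMod n))) q →+ ZMod n)),
      ∀ x, α (((EtCoh.HF P m).map ((EtShriek.extZero j).map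
          ((tr v).app (EtCoh.const X (ZMod n))))).hom x) =
        (α' x).comp (EtCore.Hpull v (EtCoh.const X (ZMod n)) q) := by
  have b1 := δ_bijective j (tr := tr') hn h hb i (EtCoh.top X)
  have b2 := δ_bijective j (tr := tr') hn h hb i (self v)
  refine assemble n
    (((EtCoh.HF P m).mapIso
      ((EtShriek.extZero j).mapIso (JFComp.topIso (ZMod n) X).symm)).addCommGroupIsoToAddEquiv)
    (((EtCoh.HF P m).mapIso
      ((EtShriek.extZero j).mapIso (theta v (ZMod n)).symm)).addCommGroupIsoToAddEquiv)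
    (δ j h i tr' (EtCoh.top X)) b1 (δ j h i tr' (self v)) b2
    (tE (EtCoh.const X (ZMod n)) q) (rE v (EtCoh.const X (ZMod n)) q)
    ((EtCoh.HF P m).map ((EtShriek.extZero j).map ((tr v).app (EtCoh.const X (ZMod n))))).hom
    (fun y => (EtCoh.HF P m).map ((EtShriek.extZero j).map (LSmap n (DualShape.toTop (self v)))) y)
    (fun e => (Ext.mk₀ (ZSmap (DualShape.toTop (self v)))).comp e (zero_add q))
    (EtCore.Hpull v (EtCoh.const X (ZMod n)) q) ?_ ?_ ?_
  · intro y
    have h1 : (EtCoh.HF P m).map ((EtShriek.extZero j).map (theta v (ZMod n)).hom) ≫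
        (EtCoh.HF P m).map ((EtShriek.extZero j).map ((tr v).app (EtCoh.const X (ZMod n)))) ≫
        (EtCoh.HF P m).map ((EtShriek.extZero j).map (JFComp.topIso (ZMod n) X).inv) =
        (EtCoh.HF P m).map ((EtShriek.extZero j).map (LSmap n (DualShape.toTop (self v)))) := by
      rw [← Functor.map_comp, ← Functor.map_comp, ← Functor.map_comp, ← Functor.map_comp,
        ← Category.assoc, theta_tr, Category.assoc, Iso.hom_inv_id, Category.comp_id]
    exact ConcreteCategory.congr_hom h1 y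
  · intro y e
    exact δ_map j h i (DualShape.toTop (self v)) y e
  · intro e
    exact rE_Hpull v (EtCoh.const X (ZMod n)) q e

end K806.TrDual
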